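import Mathlib
import Groth.Prelude.Def_ega3

/-!
# `M ↦ H(L ⊗ M)` commutes with products for a complex of finite free modules
-/

set_option autoImplicit false
set_option backward.isDefEq.respectTransparency false
set_option backward.isDefEq.respectTransparency.types false

universe u

open CategoryTheory CategoryTheory.Limits
open scoped TensorProduct

noncomputable section

namespace Groth.Agent.ProdCoh13

variable {A : Type u} [CommRing A]

/-- Tensoring with a finite free module commutes with products. -/
theorem bijective_lTensor_pi (P : Type u) [AddCommGroup P] [Module A P] [Module.Free A P] [Module.Finite A P]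
    {J : Type u} (M : J → Type u) [∀ j, AddCommGroup (M j)] [∀ j, Module A (M j)]
    (N : Type u) [AddCommGroup N] [Module A N] (π : ∀ j, N →ₗ[A] M j)
    (hπ : Function.Bijective fun n j => π j n) :
    Function.Bijective fun (t : P ⊗[A] N) (j : J) => LinearMap.lTensor P (π j) t := by
  classical
  let b := Module.Free.chooseBasis A P
  let e := fun (Q : Type u) (_ : AddCommGroup Q) (_ : Module A Q) =>
    TensorProduct.equivFinsuppOfBasisLeft (N := Q) b
  have nat : ∀ j (t : P ⊗[A] N) i,
      e (M j) inferInstance inferInstance (LinearMap.lTensor P (π j) t) i =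
        π j (e N inferInstance inferInstance t i) := by
    intro j t i
    induction t using TensorProduct.induction_on with
    | zero => simp
    | tmul p n => simp [e]
    | add x y hx hy => simp [map_add, hx, hy]
  constructor
  · intro s t h
    apply (e N inferInstance inferInstance).injective
    ext i
    apply hπ.1
    funext j
    change π j _ = π j _
    rw [← nat, ← nat]
    exact congrArg (fun y => e (M j) inferInstance inferInstance y i) (congrFun h j)
  · intro y
    choose n hn using fun i => hπ.2 fun j => e (M j) inferInstance inferInstance (y j) i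
    refine ⟨(e N inferInstance inferInstance).symm (Finsupp.equivFunOnFinite.symm n), ?_⟩
    funext j
    apply (e (M j) inferInstance inferInstance).injective
    ext i
    rw [nat]
    simpa using congrFun (hn i) j

variable {ι : Type} {c : ComplexShape ι}

lemma homologyπ_surjective (K : HomologicalComplex (ModuleCat.{u} A) c) (i : ι) :
    Function.Surjective (K.homologyπ i).hom :=
  (ModuleCat.epi_iff_surjective _).1 inferInstance

lemma iCycles_injective (K : HomologicalComplex (ModuleCat.{u} A) c) (i : ι) :
    Function.Injective (K.iCycles i).hom :=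
  (ModuleCat.mono_iff_injective _).1 inferInstance

lemma exists_cycle (K : HomologicalComplex (ModuleCat.{u} A) c) (i : ι) (x : K.X i)
    (hx : (K.d i (c.next i)).hom x = 0) : ∃ z : K.cycles i, (K.iCycles i).hom z = x := by
  refine ⟨(K.liftCycles (ModuleCat.ofHom (LinearMap.toSpanSingleton A (K.X i) x)) (c.next i) rfl ?_).hom 1, ?_⟩
  · ext
    simp [hx]
  · rw [← ModuleCat.comp_apply, HomologicalComplex.liftCycles_i]
    simp

lemma homologyπ_eq_zero_iff (K : HomologicalComplex (ModuleCat.{u} A) c) (i : ι) (z : K.cycles i) :
    (K.homologyπ i).hom z = 0 ↔ ∃ w : K.X (c.prev i), (K.d (c.prev i) i).hom w = (K.iCycles i).hom z := by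
  have hex : (ShortComplex.mk (K.toCycles (c.prev i) i) (K.homologyπ i)
      (K.toCycles_comp_homologyπ (c.prev i) i)).Exact :=
    ShortComplex.exact_of_g_is_cokernel _ (K.homologyIsCokernel _ i rfl)
  constructor
  · intro h
    obtain ⟨w, hw⟩ := (ShortComplex.moduleCat_exact_iff _).1 hex z h
    refine ⟨w, ?_⟩
    rw [← K.toCycles_i (c.prev i) i, ModuleCat.comp_apply]
    exact congrArg _ hw
  · rintro ⟨w, hw⟩
    have : (K.toCycles (c.prev i) i).hom w = z := by
      apply iCycles_injective K i
      rw [← ModuleCat.comp_apply, K.toCycles_i, hw]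
    rw [← this, ← ModuleCat.comp_apply, K.toCycles_comp_homologyπ]
    simp

/-- A degreewise product of complexes has the product homology. -/
theorem bijective_homology_pi {J : Type u} (K : HomologicalComplex (ModuleCat.{u} A) c)
    (L : J → HomologicalComplex (ModuleCat.{u} A) c) (φ : ∀ j, K ⟶ L j)
    (hφ : ∀ i, Function.Bijective fun (x : K.X i) (j : J) => ((φ j).f i).hom x) (p : ι) :
    Function.Bijective fun (x : K.homology p) (j : J) => (HomologicalComplex.homologyMap (φ j) p).hom x := by
  have hπ : ∀ j (z : K.cycles p), (HomologicalComplex.homologyMap (φ j) p).hom ((K.homologyπ p).hom z) =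
      ((L j).homologyπ p).hom ((HomologicalComplex.cyclesMap (φ j) p).hom z) := fun j z => by
    rw [← ModuleCat.comp_apply, HomologicalComplex.homologyπ_naturality, ModuleCat.comp_apply]
  have hi : ∀ j (z : K.cycles p), ((L j).iCycles p).hom ((HomologicalComplex.cyclesMap (φ j) p).hom z) =
      ((φ j).f p).hom ((K.iCycles p).hom z) := fun j z => by
    rw [← ModuleCat.comp_apply, HomologicalComplex.cyclesMap_i, ModuleCat.comp_apply]
  have hd : ∀ j (i i' : ι) (x : K.X i), ((L j).d i i').hom (((φ j).f i).hom x) =
      ((φ j).f i').hom ((K.d i i').hom x) := fun j i i' x => by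
    rw [← ModuleCat.comp_apply, (φ j).comm, ModuleCat.comp_apply]
  constructor
  · intro a a' h
    rw [← sub_eq_zero]
    obtain ⟨z, hz⟩ := homologyπ_surjective K p (a - a')
    rw [← hz, homologyπ_eq_zero_iff]
    have h0 : ∀ j, ∃ w, ((L j).d (c.prev p) p).hom w = ((φ j).f p).hom ((K.iCycles p).hom z) := by
      intro j
      rw [← hi]
      refine (homologyπ_eq_zero_iff (L j) p _).1 ?_
      rw [← hπ, hz, map_sub, sub_eq_zero]
      exact congrFun h j
    choose w hw using h0
    obtain ⟨v, hv⟩ := (hφ (c.prev p)).2 w
    refine ⟨v, (hφ p).1 ?_⟩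
    funext j
    change ((φ j).f p).hom _ = ((φ j).f p).hom _
    rw [← hd, ← hw j]
    exact congrArg _ (congrFun hv j)
  · intro a
    choose z hz using fun j => homologyπ_surjective (L j) p (a j)
    obtain ⟨x, hx⟩ := (hφ p).2 fun j => ((L j).iCycles p).hom (z j)
    have hcyc : (K.d p (c.next p)).hom x = 0 := by
      refine (hφ (c.next p)).1 (funext fun j => ?_)
      change ((φ j).f _).hom _ = ((φ j).f _).hom 0
      rw [← hd, map_zero, show ((φ j).f p).hom x = ((L j).iCycles p).hom (z j) from congrFun hx j,
        ← ModuleCat.comp_apply, HomologicalComplex.iCycles_d]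
      simp
    obtain ⟨y, hy⟩ := exists_cycle K p x hcyc
    refine ⟨(K.homologyπ p).hom y, funext fun j => ?_⟩
    change (HomologicalComplex.homologyMap (φ j) p).hom _ = a j
    rw [hπ, ← hz j]
    congr 1
    apply iCycles_injective
    rw [hi, hy]
    exact congrFun hx j

open MonoidalCategory in
/-- `M ↦ H(L ⊗ M)` preserves products when the terms of `L` are finite free. -/
theorem preservesLimitsOfShape_TFun (L : HomologicalComplex (ModuleCat.{u} A) c)
    [∀ i, Module.Free A (L.X i)] [∀ i, Module.Finite A (L.X i)] (p : ι) (J : Type u) :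
    PreservesLimitsOfShape (Discrete J) (CohIII.TFun L p) := by
  refine ⟨fun {K} => ?_⟩
  let M : J → ModuleCat.{u} A := fun j => K.obj ⟨j⟩
  suffices h : PreservesLimit (Discrete.functor M) (CohIII.TFun L p) from
    @preservesLimit_of_iso_diagram _ _ _ _ _ _ _ _ _ (Discrete.natIsoFunctor (F := K)).symm h
  have h1 : ∀ i, Function.Bijective fun (x : (CohIII.tensorObj L (ModuleCat.of A (∀ j, M j))).X i) (j : J) =>
      ((CohIII.tensorMap L (ModuleCat.ofHom (LinearMap.proj j) : ModuleCat.of A (∀ j, M j) ⟶ M j)).f i).hom x := by
    intro i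
    exact bijective_lTensor_pi (L.X i) (fun j => M j) (∀ j, M j) (fun j => LinearMap.proj j)
      Function.bijective_id
  have h2 := bijective_homology_pi _ _
    (fun j => CohIII.tensorMap L (ModuleCat.ofHom (LinearMap.proj j) : ModuleCat.of A (∀ j, M j) ⟶ M j)) h1 p
  refine preservesLimit_of_preserves_limit_cone (ModuleCat.productConeIsLimit M) ?_
  refine IsLimit.ofPointIso (t := (CohIII.TFun L p).mapCone (ModuleCat.productCone M))
    (limit.isLimit _) (i := ?_)
  rw [ConcreteCategory.isIso_iff_bijective]
  constructor
  · intro a b h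
    apply h2.1
    funext j
    have := congrArg (limit.π (Discrete.functor M ⋙ CohIII.TFun L p) ⟨j⟩).hom h
    have hl := (limit.isLimit (Discrete.functor M ⋙ CohIII.TFun L p)).fac
      ((CohIII.TFun L p).mapCone (ModuleCat.productCone M)) ⟨j⟩
    exact ((ConcreteCategory.congr_hom hl a).symm.trans this).trans (ConcreteCategory.congr_hom hl b)
  · intro y
    obtain ⟨a, ha⟩ := h2.2 fun j => (limit.π (Discrete.functor M ⋙ CohIII.TFun L p) ⟨j⟩).hom y
    refine ⟨a, Concrete.limit_ext _ _ _ fun ⟨j⟩ => ?_⟩
    erw [← ModuleCat.comp_apply, limit.lift_π]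
    exact congrFun ha j

end Groth.Agent.ProdCoh13
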